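/-
Project L11 (S3717): the structure of `C(t)` from the Feit–Thompson theorem on self-centralizing subgroups of order 3.
-/
import Cfsg.Agent.L11.Defs
import Cfsg.Agent.S3331
import Cfsg.Agent.Grp.PNilp
import Cfsg.Agent.Grp.Fitting

set_option autoImplicit false
open Subgroup Cfsg CL.Grp

namespace CL.L11

universe u

namespace Rawx

theorem split {C : Type*} [Group C] [Finite C] (K : Subgroup C) [K.Normal] [Group.IsNilpotent K]
    (c3 : (Nat.card K).Coprime 3) (le : pCore 2 C ≤ K) : ∃ R : Subgroup C, R.Normal ∧ (Nat.card R).Coprime 6 ∧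
      (∀ q ∈ pCore 2 C, ∀ r ∈ R, q * r = r * q) ∧ ∀ x, x ∈ K ↔ ∃ q ∈ pCore 2 C, ∃ r ∈ R, x = q * r := by
  have := Fact.mk Nat.prime_two
  have c2 : (Nat.card ((pResidual 2 K).map K.subtype)).Coprime 2 := by
    rw [card_map_subtype]
    exact hasNormalPComplement_iff_coprime_pResidual.1 hasNormalPComplement_of_isNilpotent
  have cm : ∀ q ∈ pCore 2 C, ∀ r ∈ (pResidual 2 K).map K.subtype, q * r = r * q := fun q hq r hr =>
    commute_of_normal_of_disjoint _ _ inferInstance inferInstance (disjoint_def.2 fun h1 h2 =>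
      eq_one_of_coprime_of_mem (pCore_isPGroup 2 C) h1 (c2.coprime_dvd_left (orderOf_dvd_natCard _ h2))) q r hq hr
  refine ⟨_, inferInstance, Nat.Coprime.mul_right c2 (c3.coprime_dvd_left (card_dvd_of_le (map_subtype_le _))), cm,
    fun x => ⟨fun hx => ?_, ?_⟩⟩
  · obtain ⟨a, ha, b, hb, e⟩ := exists_pResidual_mul_sylow (default : Sylow 2 K) ⟨x, hx⟩
    have hb' : (b : C) ∈ pCore 2 C := le_pCore (N := pCoreOf 2 K) ((pCore_isPGroup 2 K).map _)
      ⟨b, sylow_eq_pCore_of_isNilpotent (default : Sylow 2 K) ▸ hb, rfl⟩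
    exact ⟨b, hb', a, ⟨a, ha, rfl⟩, (congrArg Subtype.val e).trans (cm _ hb' _ ⟨a, ha, rfl⟩).symm⟩
  · rintro ⟨q, hq, r, hr, rfl⟩
    exact mul_mem (le hq) (map_subtype_le _ hr)

theorem s3 : pCore 2 (Equiv.Perm (Fin 3)) = ⊥ := (eq_bot_iff_forall _).2 fun g hg => by
  have k : ∀ g : Equiv.Perm (Fin 3), g = 1 ∨ ∃ h, (g * (h * g * h⁻¹)) ^ 3 = 1 ∧ g * (h * g * h⁻¹) ≠ 1 := by
    decide +kernel
  refine (k g).resolve_right fun ⟨h, h1, h2⟩ => h2 (eq_one_of_coprime_of_mem (pCore_isPGroup 2 _)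
    (mul_mem hg (Normal.conj_mem inferInstance g hg h)) ?_)
  exact Nat.Coprime.coprime_dvd_left (orderOf_dvd_of_pow_eq_one h1) (by decide)

theorem a5 : pCore 2 (alternatingGroup (Fin 5)) = ⊥ := (Normal.eq_bot_or_eq_top inferInstance).resolve_right fun e => by
  have := Fact.mk Nat.prime_two
  obtain ⟨n, hn⟩ := IsPGroup.iff_card.1 (pCore_isPGroup 2 (alternatingGroup (Fin 5)))
  rw [e, card_top, nat_card_alternatingGroup, Nat.card_fin] at hn
  exact absurd (Nat.prime_three.dvd_of_dvd_pow (hn ▸ by decide : 3 ∣ 2 ^ n)) (by decide)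

theorem le_ker {C L : Type*} [Group C] [Group L] {φ : C →* L} (su : Function.Surjective φ) (h : pCore 2 L = ⊥) {x : C}
    (hx : x ∈ pCore 2 C) : φ x = 1 := h.le (map_pCore_le_of_surjective su ⟨x, hx, rfl⟩)

end Rawx

open Rawx in
theorem rawThm (_hB : BasThm.{u}) (hF2 : F2Thm.{u}) : RawThm.{u} := by
  intro G _ _ M y t c z d h
  have := Fact.mk Nat.prime_two
  have := Fact.mk Nat.prime_three
  obtain ⟨-, -, -, ⟨o6, c6⟩, -⟩ := hF2 G M y t c z d h
  let t' : centralizer ({t} : Set G) := ⟨t, mem_centralizer_singleton_iff.2 rfl⟩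
  let y' : centralizer ({t} : Set G) := ⟨y, mem_centralizer_singleton_iff.2 h.ty.symm⟩
  let z' : centralizer ({t} : Set G) := ⟨z, mem_centralizer_singleton_iff.2 h.zt⟩
  have tc : t' ∈ center _ := mem_center_iff.2 fun x => Subtype.ext (mem_centralizer_singleton_iff.1 x.2)
  have ot : orderOf t' = 2 := by rw [← Subgroup.orderOf_coe]; exact h.t2
  have : (zpowers t').Normal := ⟨fun x hx g => by
    rwa [mem_center_iff.1 (zpowers_le.2 tc hx) g, mul_inv_cancel_right]⟩
  obtain ⟨π, hπ⟩ : ∃ π, π = QuotientGroup.mk' (zpowers t') := ⟨_, rfl⟩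
  have su : Function.Surjective π := hπ ▸ QuotientGroup.mk'_surjective _
  have kr : π.ker = zpowers t' := hπ ▸ QuotientGroup.ker_mk' _
  have ck : Nat.card π.ker = 2 := by rw [kr, Nat.card_zpowers, ot]
  have pt : π t' = 1 := kr.ge (mem_zpowers _)
  have k1 : ∀ x, π x = 1 ↔ (x : G) = 1 ∨ (x : G) = t := fun x => ⟨fun e => by
    classical
    have := kr.le e
    rw [mem_zpowers_iff_mem_range_orderOf, ot] at this
    obtain ⟨i, hi, rfl⟩ := Finset.mem_image.1 this
    have := Finset.mem_range.1 hi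
    interval_cases i
    exacts [.inl (pow_zero t), .inr (pow_one t)], fun e => e.elim (fun e => by rw [show x = 1 from Subtype.ext e, map_one])
      fun e => by rw [show x = t' from Subtype.ext e, pt]⟩
  have eqv : ∀ a b, π a = π b → (a : G) = b ∨ (a : G) = b * t := fun a b e =>
    ((k1 (b⁻¹ * a)).1 (by rw [map_mul, map_inv, e, inv_mul_cancel])).imp (fun k => (inv_mul_eq_one.1 k).symm)
      fun k => inv_mul_eq_iff_eq_mul.1 k
  have y3 : y' ^ 3 = 1 := Subtype.ext (h.y3 ▸ pow_orderOf_eq_one y)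
  have oy : orderOf (π y') = 3 := orderOf_eq_prime (by rw [← map_pow, y3, map_one]) fun e => by
    have := h.y3
    rcases (k1 _).1 e with e | e
    · rw [show y = 1 from e, orderOf_one] at this; omega
    · rw [show y = t from e, h.t2] at this; omega
  have mO : ∀ x : centralizer ({t} : Set G), (x : G) ∈ O2C t ↔ x ∈ pCore 2 _ := fun x =>
    mem_map_iff_mem (subtype_injective _)
  rcases Cfsg.Agent.S3331.result (zpowers (π y')) (by rw [Nat.card_zpowers, oy]) (le_antisymm (fun x hx => by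
      obtain ⟨x, rfl⟩ := su x
      have e := (eqv (x * y' * x⁻¹) y' (by
        rw [map_mul, map_mul, map_inv, ← hx _ (mem_zpowers _), mul_inv_cancel_right])).resolve_right fun e => by
          have := (isConj_iff.2 ⟨(x : G), e⟩ : IsConj y (y * t))
          obtain ⟨g, hg⟩ := isConj_iff.1 this
          have k := (MulAut.conj g).orderOf_eq y
          rw [MulAut.conj_apply, hg, o6, h.y3] at k
          omega
      obtain ⟨i, hi⟩ := c6.le (mem_centralizer_singleton_iff.2 ((show Commute (x : G) y from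
        mul_inv_eq_iff_eq_mul.1 e).mul_right (mem_centralizer_singleton_iff.1 x.2)))
      exact ⟨i, by rw [show x = (y' * t') ^ i from Subtype.ext hi.symm, map_zpow, map_mul, pt, mul_one]⟩)
    (le_centralizer _)) with ⟨N, hN, nil, c3, e | ⟨⟨e⟩⟩⟩ | ⟨N, hN, ab, sq, ⟨e⟩⟩ | ⟨⟨e⟩⟩
  · have := isCyclic_of_prime_card e
    have e1 : (QuotientGroup.mk' N).comp π (y' * y') = 1 := by
      have k := congrArg ((QuotientGroup.mk' N).comp π) (show z' * y' * z'⁻¹ = y'⁻¹ from Subtype.ext h.zy)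
      rw [map_mul, map_mul, map_inv, mul_comm' _ ((QuotientGroup.mk' N).comp π y'), mul_inv_cancel_right, map_inv] at k
      rw [map_mul]
      exact eq_inv_iff_mul_eq_one.1 k
    have e2 : π y' ∈ N := by
      rw [show y' = (y' * y') * (y' * y') by
        rw [show y' * y' * (y' * y') = y' ^ 3 * y' by simp only [pow_succ, pow_zero, one_mul, mul_assoc], y3, one_mul], map_mul]
      exact mul_mem ((QuotientGroup.eq_one_iff _).1 e1) ((QuotientGroup.eq_one_iff _).1 e1)
    exact absurd (c3.coprime_dvd_left (oy ▸ orderOf_dvd_natCard N e2)) (by decide)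
  · let φ := e.toMonoidHom.comp ((QuotientGroup.mk' N).comp π)
    have sφ : Function.Surjective φ := e.surjective.comp ((QuotientGroup.mk'_surjective N).comp su)
    have kφ : ∀ x, φ x = 1 ↔ x ∈ N.comap π := fun x => (map_eq_one_iff _ e.injective).trans (QuotientGroup.eq_one_iff _)
    have : Group.IsNilpotent (N.comap π) := Subgroup.isNilpotent_of_ker_le_center (π.subgroupComap N) fun x hx =>
      mem_center_iff.2 fun w => Subtype.ext (mem_center_iff.1 (zpowers_le.2 tc (kr.le (congrArg Subtype.val hx))) w)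
    obtain ⟨R, nR, c6, cm, dec⟩ := split (N.comap π) (by
      rw [card_comap_of_surjective su, ck]; exact Nat.Coprime.mul_left (by decide) c3)
      fun x hx => (kφ x).1 (le_ker sφ s3 hx)
    refine .inl ⟨R.map (Subgroup.subtype _), φ, map_subtype_le _, by rwa [card_map_subtype], ?_, ?_, sφ,
      fun x => (kφ x).trans ((dec x).trans ⟨?_, ?_⟩)⟩
    · rintro g hg _ ⟨r, hr, rfl⟩
      exact ⟨_, nR.conj_mem r hr ⟨g, hg⟩, rfl⟩
    · rintro _ ⟨q, hq, rfl⟩ _ ⟨r, hr, rfl⟩
      exact congrArg Subtype.val (cm q hq r hr)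
    · rintro ⟨q, hq, r, hr, rfl⟩
      exact ⟨_, ⟨q, hq, rfl⟩, _, ⟨r, hr, rfl⟩, rfl⟩
    · rintro ⟨_, ⟨q, hq, rfl⟩, _, ⟨r, hr, rfl⟩, e⟩
      exact ⟨q, hq, r, hr, Subtype.ext e⟩
  · let φ := e.toMonoidHom.comp ((QuotientGroup.mk' N).comp π)
    have sφ : Function.Surjective φ := e.surjective.comp ((QuotientGroup.mk'_surjective N).comp su)
    have kφ : ∀ x, φ x = 1 ↔ π x ∈ N := fun x => (map_eq_one_iff _ e.injective).trans (QuotientGroup.eq_one_iff _)
    have k2 : ∀ x, φ x = 1 ↔ x ∈ pCore 2 _ := fun x => ⟨fun hx => by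
      rw [← comap_pCore_of_surjective su (IsPGroup.of_card (n := 1) ck)]
      exact le_pCore (N := N) (fun n => ⟨1, Subtype.ext (sq n n.2)⟩) ((kφ x).1 hx), le_ker sφ a5⟩
    by_cases ex : ∃ q ∈ O2C t, q ≠ 1 ∧ q ≠ t
    · refine .inr (.inl ⟨⟨φ, sφ, fun x => (k2 x).trans (mO x).symm⟩, ?_, ?_, ex⟩)
      · rintro _ ⟨q, hq, rfl⟩
        exact (k1 (q * q)).1 (by rw [map_mul, ← pow_two]; exact sq _ ((kφ q).1 ((k2 q).2 hq)))
      · rintro _ ⟨p, hp, rfl⟩ _ ⟨q, hq, rfl⟩
        exact eqv (p * q) (q * p) (by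
          rw [map_mul, map_mul]
          exact congrArg Subtype.val (ab.1.1 ⟨_, (kφ p).1 ((k2 p).2 hp)⟩ ⟨_, (kφ q).1 ((k2 q).2 hq)⟩))
    · refine .inr (.inr (.inl ⟨φ, sφ, fun x => ⟨fun hx => ?_, fun hx => (kφ x).2 (((k1 x).2 hx).symm ▸ one_mem _)⟩⟩))
      by_contra! k
      exact ex ⟨x, (mO x).2 ((k2 x).1 hx), k⟩
  · exact .inr (.inr (.inr ⟨e.toMonoidHom.comp π, e.surjective.comp su,
      fun x => (map_eq_one_iff _ e.injective).trans (k1 x)⟩))

end CL.L11
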